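import Groth.Prelude.Def_RelSpec2
import Groth.Agent.ModSiteLib.Colimits
import Groth.Agent.FiltSectLib.Push

/-!
# Direct images as modules over the direct-image algebra commute with filtered colimits and coproducts
-/

set_option autoImplicit false
universe u

open CategoryTheory CategoryTheory.Limits AlgebraicGeometry Opposite

namespace DirImgLib

variable {X S : Scheme.{u}} (f : X ⟶ S) [QuasiCompact f] [QuasiSeparated f]

theorem preservesColimitsOfShape_dirImg (J : Type u) [SmallCategory J]
    [PreservesColimitsOfShape J (Scheme.Modules.pushforward f)] :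
    PreservesColimitsOfShape J (AMod.dirImg f) := by
  obtain ⟨-, h2, h3⟩ := ModSiteLib.restrictScalars_preserves
    (AMod.strHom (RelSpec.QCAlg.directImage f))
  haveI : PreservesColimitsOfSize.{u, u} (AMod.toOS (RelSpec.QCAlg.directImage f)) := h2
  haveI : (AMod.toOS (RelSpec.QCAlg.directImage f)).ReflectsIsomorphisms := h3
  haveI : ReflectsColimitsOfShape J (AMod.toOS (RelSpec.QCAlg.directImage f)) :=
    reflectsColimitsOfShape_of_reflectsIsomorphisms
  haveI : PreservesColimitsOfShape J (AMod.dirImg f ⋙ AMod.toOS (RelSpec.QCAlg.directImage f)) := by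
    rw [AMod.toOS_dirImg]; infer_instance
  exact preservesColimitsOfShape_of_reflects_of_preserves (AMod.dirImg f)
    (AMod.toOS (RelSpec.QCAlg.directImage f))

end DirImgLib
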